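import Mathlib
import Cfsg.Agent.Lib.Helper50.HUPT.Defs
import Cfsg.Agent.Lib.Helper66.HUPT.XN

/-!
# HUPT [E26], part (B): the pure group theory.
-/

set_option autoImplicit false

namespace Cfsg.Agent.Lib.Helper96.HUPT

open Cfsg.Agent.Lib.Helper50.HUPT
open scoped commutatorElement

universe v

section tools

variable {G : Type v} [Group G]

/-- A perfect subgroup of a solvable group is trivial. -/
theorem e26_perfect_eq_bot [Group.IsSolvable G] (D : Subgroup G) (h : D ≤ ⁅D, D⁆) : D = ⊥ := by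
  obtain ⟨n, hn⟩ := Group.IsSolvable.solvable (G := G)
  have hall : ∀ k, D ≤ derivedSeries G k := by
    intro k
    induction k with
    | zero => rw [derivedSeries_zero]; exact le_top
    | succ k ih =>
      rw [derivedSeries_succ]
      exact h.trans (Subgroup.commutator_mono ih ih)
  exact eq_bot_iff.mpr (hn ▸ hall n)

/-- A nontrivial solvable group has a nontrivial normal abelian subgroup. -/
theorem e26_exists_normal_abelian [Group.IsSolvable G] [Nontrivial G] :
    ∃ N : Subgroup G, N.Normal ∧ N ≠ ⊥ ∧ ∀ a ∈ N, ∀ b ∈ N, a * b = b * a := by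
  classical
  have hex := Group.IsSolvable.solvable (G := G)
  have hn : derivedSeries G (Nat.find hex) = ⊥ := Nat.find_spec hex
  have hn0 : Nat.find hex ≠ 0 := by
    intro h0
    rw [h0, derivedSeries_zero] at hn
    exact top_ne_bot hn
  obtain ⟨k, hk⟩ := Nat.exists_eq_succ_of_ne_zero hn0
  refine ⟨derivedSeries G k, inferInstance, ?_, ?_⟩
  · exact Nat.find_min hex (by omega)
  · intro a ha b hb
    have h1 : ⁅a, b⁆ ∈ derivedSeries G (k + 1) := by
      rw [derivedSeries_succ]
      exact Subgroup.commutator_mem_commutator ha hb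
    rw [← Nat.succ_eq_add_one, ← hk, hn, Subgroup.mem_bot] at h1
    exact commutatorElement_eq_one_iff_mul_comm.mp h1

/-- Commutators are unchanged by central factors. -/
theorem e26_comm_central (M : Subgroup G) (z z' d d' : G)
    (hz : ∀ g ∈ M, g * z = z * g) (hz' : ∀ g ∈ M, g * z' = z' * g)
    (hd : d ∈ M) (hd' : d' ∈ M) (hzM : z' ∈ M) :
    ⁅z * d, z' * d'⁆ = ⁅d, d'⁆ := by
  have h1 : ∀ g ∈ M, z * g * z⁻¹ = g := fun g hg => by rw [← hz g hg, mul_inv_cancel_right]
  have h1' : ∀ g ∈ M, z' * g * z'⁻¹ = g := fun g hg => by rw [← hz' g hg, mul_inv_cancel_right]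
  rw [commutatorElement_def, commutatorElement_def]
  have hb : z' * d' ∈ M := M.mul_mem hzM hd'
  have e1 : z * d * (z' * d') * (z * d)⁻¹ * (z' * d')⁻¹
      = z * (d * (z' * d') * d⁻¹) * z⁻¹ * (z' * d')⁻¹ := by group
  rw [e1, h1 _ (M.mul_mem (M.mul_mem hd hb) (M.inv_mem hd))]
  have e2 : d * (z' * d') * d⁻¹ * (z' * d')⁻¹ = (d * z') * d' * d⁻¹ * d'⁻¹ * z'⁻¹ := by group
  rw [e2, hz' d hd]
  have e3 : z' * d * d' * d⁻¹ * d'⁻¹ * z'⁻¹ = z' * (d * d' * d⁻¹ * d'⁻¹) * z'⁻¹ := by group
  rw [e3, h1' _ (M.mul_mem (M.mul_mem (M.mul_mem hd hd') (M.inv_mem hd)) (M.inv_mem hd'))]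

end tools

/-- **E26, part (B)**: a finite solvable group of order divisible by `63` whose normal abelian
subgroups have order `1`, `3` or `7` contains normal subgroups `N ≤ M`, `N` of order
`s ∈ {3, 7}`, `M` of class two with centre `N`, centralising `N`, and `|M : Z(M)| ≥ s²`. -/
theorem e26_groupB {G : Type v} [Group G] [Finite G] (hsolv : Group.IsSolvable G)
    (h63 : 63 ∣ Nat.card G)
    (hA : ∀ A : Subgroup G, A.Normal → Ab A →
      Nat.card A = 1 ∨ Nat.card A = 3 ∨ Nat.card A = 7) :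
    ∃ (s : ℕ) (N M : Subgroup G), (s = 3 ∨ s = 7) ∧ N.Normal ∧ M.Normal ∧ Ab N ∧
      Nat.card N = s ∧ N ≤ M ∧ (∀ a ∈ M, ∀ n ∈ N, a * n = n * a) ∧ ZM M = N ∧ Cl2 M ∧
      s ^ 2 ≤ (Subgroup.center ↥M).index := by
  classical
  have hcardG : 63 ≤ Nat.card G := Nat.le_of_dvd Nat.card_pos h63
  have hnt : Nontrivial G := (Finite.one_lt_card_iff_nontrivial).mp (by omega)
  obtain ⟨N, hNn, hNne, hNab⟩ := e26_exists_normal_abelian (G := G)
  have hNcard : Nat.card N = 3 ∨ Nat.card N = 7 := by
    rcases hA N hNn hNab with h | h | h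
    · exact absurd (Subgroup.card_eq_one.mp h) hNne
    · exact Or.inl h
    · exact Or.inr h
  have hsprime : (Nat.card N).Prime := by
    rcases hNcard with h | h <;> rw [h] <;> norm_num
  -- a generator of N
  obtain ⟨x, hxN, hx1⟩ : ∃ x ∈ N, x ≠ 1 := by
    by_contra hcon
    push Not at hcon
    exact hNne (eq_bot_iff.mpr fun y hy => Subgroup.mem_bot.mpr (hcon y hy))
  have hzp : Subgroup.zpowers x = N := by
    apply Subgroup.eq_of_le_of_card_ge ((Subgroup.zpowers_le).mpr hxN)
    rw [Nat.card_zpowers]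
    have h1 : orderOf x ∣ Nat.card N := Subgroup.orderOf_dvd_natCard N hxN
    rcases (Nat.dvd_prime hsprime).mp h1 with h | h
    · exact absurd (orderOf_eq_one_iff.mp h) hx1
    · exact h.ge
  -- the centraliser of N
  have hCn : (Subgroup.centralizer (N : Set G)).Normal := inferInstance
  have hNC : N ≤ Subgroup.centralizer (N : Set G) := by
    intro y hy
    rw [Subgroup.mem_centralizer_iff]
    intro n hn
    exact hNab n hn y hy
  have hcent_of_comm : ∀ k : G, k * x = x * k → k ∈ Subgroup.centralizer (N : Set G) := by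
    intro k hk
    rw [Subgroup.mem_centralizer_iff]
    intro n hn
    rw [← hzp] at hn
    obtain ⟨j, rfl⟩ := Subgroup.mem_zpowers_iff.mp hn
    exact ((Commute.zpow_right (show Commute k x from hk) j).eq).symm
  have hidx : (Subgroup.centralizer (N : Set G)).index ≤ Nat.card N := by
    rw [Subgroup.index_eq_card]
    let φ : G ⧸ Subgroup.centralizer (N : Set G) → N := fun q =>
      Quotient.liftOn' q (fun g => (⟨g * x * g⁻¹, hNn.conj_mem x hxN g⟩ : N)) (by
        intro a b hab
        rw [QuotientGroup.leftRel_apply] at hab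
        apply Subtype.ext
        show a * x * a⁻¹ = b * x * b⁻¹
        have h1 := (Subgroup.mem_centralizer_iff.mp hab) x hxN
        calc a * x * a⁻¹ = a * (x * (a⁻¹ * b)) * b⁻¹ := by group
          _ = a * ((a⁻¹ * b) * x) * b⁻¹ := by rw [h1]
          _ = b * x * b⁻¹ := by group)
    have hinj : Function.Injective φ := by
      intro q₁ q₂
      refine Quotient.inductionOn₂' q₁ q₂ ?_
      intro a b h
      have h' : a * x * a⁻¹ = b * x * b⁻¹ := congrArg Subtype.val h
      apply Quotient.sound'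
      rw [QuotientGroup.leftRel_apply]
      apply hcent_of_comm
      calc a⁻¹ * b * x = a⁻¹ * (b * x * b⁻¹) * b := by group
        _ = a⁻¹ * (a * x * a⁻¹) * b := by rw [h']
        _ = x * (a⁻¹ * b) := by group
    exact Nat.card_le_card_of_injective φ hinj
  have hGle : Nat.card G ≤ Nat.card (Subgroup.centralizer (N : Set G)) * Nat.card N := by
    rw [← (Subgroup.centralizer (N : Set G)).card_mul_index]
    exact Nat.mul_le_mul_left _ hidx
  have hNneC : N ≠ Subgroup.centralizer (N : Set G) := by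
    intro h
    rw [← h] at hGle
    rcases hNcard with h3 | h7
    · rw [h3] at hGle; omega
    · rw [h7] at hGle; omega
  -- M minimal normal with N < M ≤ C
  obtain ⟨M, ⟨hMn, hNM, hMC⟩, hmin⟩ := WellFounded.has_min
    (InvImage.wf (fun M : Subgroup G => Nat.card M) Nat.lt_wfRel.wf)
    {M : Subgroup G | M.Normal ∧ N < M ∧ M ≤ Subgroup.centralizer (N : Set G)}
    ⟨_, hCn, lt_of_le_of_ne hNC hNneC, le_rfl⟩
  have hminK : ∀ K : Subgroup G, K.Normal → N ≤ K → K ≤ M → K = N ∨ K = M := by
    intro K hKn hNK hKM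
    by_cases hKN : K = N
    · exact Or.inl hKN
    · right
      have hKS : K ∈ {M : Subgroup G | M.Normal ∧ N < M ∧
          M ≤ Subgroup.centralizer (N : Set G)} :=
        ⟨hKn, lt_of_le_of_ne hNK (Ne.symm hKN), hKM.trans hMC⟩
      have h1 := hmin K hKS
      exact Subgroup.eq_of_le_of_card_ge hKM (not_lt.mp h1)
  have hMcent : ∀ a ∈ M, ∀ n ∈ N, a * n = n * a := by
    intro a ha n hn
    exact ((Subgroup.mem_centralizer_iff.mp (hMC ha)) n hn).symm
  have hcardNM : Nat.card N < Nat.card M := by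
    by_contra hcon
    exact hNM.ne (Subgroup.eq_of_le_of_card_ge hNM.le (not_lt.mp hcon))
  have hdvdNM : Nat.card N ∣ Nat.card M := Subgroup.card_dvd_of_le hNM.le
  have hMnab : ¬ Ab M := by
    intro hab
    have hm := hA M hMn hab
    rcases hNcard with h3 | h7
    · rw [h3] at hcardNM hdvdNM
      rcases hm with h | h | h <;> rw [h] at hcardNM hdvdNM <;> omega
    · rw [h7] at hcardNM hdvdNM
      rcases hm with h | h | h <;> rw [h] at hcardNM hdvdNM <;> omega
  -- Z(M) = N
  have hZn : (ZM M).Normal := by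
    unfold ZM
    infer_instance
  have hZab : Ab (ZM M) := by
    intro a ha b hb
    have h1 := (Subgroup.mem_centralizer_iff.mp hb.2) a ha.1
    exact h1
  have hNZ : N ≤ ZM M := by
    intro n hn
    exact ⟨hNM.le hn, Subgroup.mem_centralizer_iff.mpr (fun m hm => hMcent m hm n hn)⟩
  have hZ : ZM M = N := by
    symm
    apply Subgroup.eq_of_le_of_card_ge hNZ
    have hd : Nat.card N ∣ Nat.card (ZM M) := Subgroup.card_dvd_of_le hNZ
    have hm := hA (ZM M) hZn hZab
    rcases hNcard with h3 | h7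
    · rw [h3] at hd ⊢
      rcases hm with h | h | h <;> rw [h] at hd ⊢ <;> omega
    · rw [h7] at hd ⊢
      rcases hm with h | h | h <;> rw [h] at hd ⊢ <;> omega
  -- [M, M] ≤ N
  have hDn : (⁅M, M⁆ : Subgroup G).Normal := inferInstance
  have hDM : (⁅M, M⁆ : Subgroup G) ≤ M := Subgroup.commutator_le_left M M
  have hDN : (⁅M, M⁆ : Subgroup G) ≤ N := by
    have hKn : (N ⊔ ⁅M, M⁆ : Subgroup G).Normal := inferInstance
    rcases hminK (N ⊔ ⁅M, M⁆) hKn le_sup_left (sup_le hNM.le hDM) with hK | hK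
    · rw [← hK]; exact le_sup_right
    · exfalso
      have hperf : (⁅M, M⁆ : Subgroup G) ≤ ⁅(⁅M, M⁆ : Subgroup G), (⁅M, M⁆ : Subgroup G)⁆ := by
        rw [Subgroup.commutator_le]
        intro a ha b hb
        rw [← hK] at ha hb
        obtain ⟨n, hn, d, hd, rfl⟩ := Subgroup.mem_sup_of_normal_right.mp ha
        obtain ⟨n', hn', d', hd', rfl⟩ := Subgroup.mem_sup_of_normal_right.mp hb
        rw [e26_comm_central M n n' d d' (fun g hg => hMcent g hg n hn)
          (fun g hg => hMcent g hg n' hn') (hDM hd) (hDM hd') (hNM.le hn')]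
        exact Subgroup.commutator_mem_commutator hd hd'
      have hbot := e26_perfect_eq_bot _ hperf
      rw [hbot, sup_bot_eq] at hK
      exact hNM.ne hK
  have hcm_mem : ∀ a ∈ M, ∀ b ∈ M, cm a b ∈ N := by
    intro a ha b hb
    apply hDN
    have : cm a b = ⁅a, b⁆ := rfl
    rw [this]
    exact Subgroup.commutator_mem_commutator ha hb
  have hCl2 : Cl2 M := by
    intro a ha b hb c hc
    exact (hMcent c hc _ (hcm_mem a ha b hb)).symm
  refine ⟨Nat.card N, N, M, hNcard, hNn, hMn, hNab, rfl, hNM.le, hMcent, hZ, hCl2, ?_⟩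
  -- the index of the centre
  have hfact : Fact (Nat.card N).Prime := ⟨hsprime⟩
  have hpow : ∀ a : ↥M, a ^ (Nat.card N) ∈ Subgroup.center ↥M := by
    intro a
    rw [Subgroup.mem_center_iff]
    intro b
    have h1 : cm ((a : G) ^ (Nat.card N)) (b : G) = cm (a : G) (b : G) ^ (Nat.card N) := by
      apply Cfsg.Agent.Lib.Helper66.HUPT.cm_pow_left
      exact hMcent _ a.2 _ (hcm_mem _ a.2 _ b.2) |>.symm ▸ rfl
    have h2 : cm (a : G) (b : G) ^ (Nat.card N) = 1 := by
      have h3 := pow_card_eq_one' (G := ↥N) (x := ⟨_, hcm_mem _ a.2 _ b.2⟩)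
      exact congrArg Subtype.val h3
    rw [h2] at h1
    apply Subtype.ext
    show (b : G) * (a : G) ^ (Nat.card N) = (a : G) ^ (Nat.card N) * (b : G)
    unfold cm at h1
    have h4 : (a : G) ^ (Nat.card N) * (b : G) = (b : G) * (a : G) ^ (Nat.card N) := by
      calc (a : G) ^ (Nat.card N) * (b : G)
          = ((a : G) ^ (Nat.card N) * (b : G) * ((a : G) ^ (Nat.card N))⁻¹ * (b : G)⁻¹) *
              ((b : G) * (a : G) ^ (Nat.card N)) := by group
        _ = (b : G) * (a : G) ^ (Nat.card N) := by rw [h1, one_mul]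
    exact h4.symm
  have hncyc : ¬ IsCyclic (↥M ⧸ Subgroup.center ↥M) := by
    intro hcyc
    apply hMnab
    intro a ha b hb
    have h0 := MonoidHom.isMulCommutative_of_isCyclic_of_ker_le_center
      (QuotientGroup.mk' (Subgroup.center ↥M)) (by rw [QuotientGroup.ker_mk'])
    have h1 := h0.is_comm.comm (⟨a, ha⟩ : ↥M) ⟨b, hb⟩
    exact congrArg Subtype.val h1
  have hpg : IsPGroup (Nat.card N) (↥M ⧸ Subgroup.center ↥M) := by
    intro q
    refine ⟨1, ?_⟩
    induction q using QuotientGroup.induction_on with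
    | _ a =>
      rw [pow_one, ← QuotientGroup.mk_pow, QuotientGroup.eq_one_iff]
      exact hpow a
  obtain ⟨k, hk⟩ := (IsPGroup.iff_card).mp hpg
  rw [Subgroup.index_eq_card, hk]
  apply Nat.pow_le_pow_right hsprime.pos
  by_contra hcon
  have hk1 : k = 0 ∨ k = 1 := by omega
  rcases hk1 with rfl | rfl
  · rw [pow_zero] at hk
    have : Subsingleton (↥M ⧸ Subgroup.center ↥M) := (Nat.card_eq_one_iff_unique.mp hk).1
    exact hncyc inferInstance
  · rw [pow_one] at hk
    exact hncyc (isCyclic_of_prime_card hk)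

end Cfsg.Agent.Lib.Helper96.HUPT
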